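import Cfsg.Agent.Lib.Chev.Group.Opposite
import Cfsg.Agent.Lib.BNPair.Parabolic

/-! Perfectness and simplicity of the seven Chevalley groups. -/
set_option autoImplicit false
set_option maxRecDepth 100000
open Cfsg.Lie
open scoped Matrix MatrixGroups commutatorElement

namespace CfsgLib.Chev.Simple

open CfsgLib.Chev CfsgLib.Chev.Checks CfsgLib.Chev.Basic

variable {D : ChevalleyDatum} {F : Type*} [Field F]

theorem mem_of_scaled (hD : D ∈ dataList) {i r : ℕ} (hi : i < D.rank) (hr : r < D.nroots) {c : F} (hc : c ≠ 0)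
    (h1 : c ^ D.cartan i r ≠ 1) (t : F) : xGL hD F r t ∈ ⁅D.group F, D.group F⁆ := by
  have hne : c ^ D.cartan i r - 1 ≠ 0 := sub_ne_zero.2 h1
  set u := t / (c ^ D.cartan i r - 1) with hu
  have h : hGL hD F (D.simple i) c ∈ D.group F :=
    diagonal_le_group hD (hGL_mem_diagonal hD (Rel.simple_lt hD hi) hc)
  have e := Weight.h_conj_GL hD (Rel.simple_lt hD hi) hr hc u
  rw [Diag.pairing_simple hD hi] at e
  have key : xGL hD F r t = ⁅hGL hD F (D.simple i) c, xGL hD F r u⁆ := by
    rw [commutatorElement_def, e, Rel.xGL_inv hD hr, Rel.xGL_add hD hr]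
    congr 1
    rw [hu]; field_simp; ring
  rw [key]
  exact Subgroup.commutator_mem_commutator h (xGL_mem_group hD _ _)

theorem mem_of_pair (hD : D ∈ dataList) {r s p : ℕ} {M : ℤ} (hr : r < D.nroots) (hs : s < D.nroots)
    (hne : s ≠ r) (hneg : s ≠ D.neg r) (hT : D.commTerms r s = [(p, M, 1, 1)]) (hM : (M : F) ≠ 0) (t : F) :
    xGL hD F p t ∈ ⁅D.group F, D.group F⁆ := by
  have e := Rel.comm_GL hD hr hs hne hneg (-t / M) 1
  have hw : Rel.wordGL hD (D.commWord F r s (-t / M) 1) = xGL hD F p t := by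
    simp only [Rel.wordGL, ChevalleyDatum.commWord, hT, List.map_cons, List.map_nil, List.prod_cons, List.prod_nil,
      mul_one, pow_one]
    congr 1
    field_simp
  rw [hw] at e
  have key : xGL hD F p t = ⁅(xGL hD F s 1)⁻¹, (xGL hD F r (-t / M))⁻¹⁆ := by
    rw [commutatorElement_def, inv_inv, inv_inv, mul_assoc _ (xGL hD F s 1), e]; group
  rw [key]
  exact Subgroup.commutator_mem_commutator (inv_mem (xGL_mem_group hD _ _)) (inv_mem (xGL_mem_group hD _ _))

theorem mem_all (hD : D ∈ dataList) (hbase : ∀ a < D.rank, ∀ t : F, xGL hD F (D.simple a) t ∈ ⁅D.group F, D.group F⁆)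
    {r : ℕ} (hr : r < D.nroots) (t : F) : xGL hD F r t ∈ ⁅D.group F, D.group F⁆ := by
  refine Rel.root_induction hD (P := fun r => ∀ t : F, xGL hD F r t ∈ ⁅D.group F, D.group F⁆) hbase
    (fun i r hi hr ih t => ?_) hr t
  have e := Rel.conj_GL (F := F) hD hi hr t
  have h := ih ((Rel.eta hD i r : F) * t)
  have hn : N.ni hD F i ∈ D.group F := nGL_mem_group hD _ _
  rw [← e] at h
  exact (Subgroup.mem_normalizer_iff.1 (Subgroup.normalizer_commutator_ge_left (D.group F) (D.group F) hn) _).2 h

/-- perfectness from the fundamental root subgroups -/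
theorem perfect_of_base (hD : D ∈ dataList)
    (hbase : ∀ a < D.rank, ∀ t : F, xGL hD F (D.simple a) t ∈ ⁅D.group F, D.group F⁆) :
    commutator ↥(D.group F) = ⊤ := by
  refine Subgroup.map_injective (D.group F).subtype_injective ?_
  rw [Subgroup.map_subtype_commutator, ← MonoidHom.range_eq_map, Subgroup.range_subtype]
  refine le_antisymm (Subgroup.commutator_le_self _) ((Subgroup.closure_le _).2 ?_)
  rintro g ⟨r, t, hg⟩
  obtain rfl : g = xGL hD F r t := Units.ext (hg.trans (Checks.x_of_lt r.2 t).symm)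
  exact mem_all hD hbase r.2 t

/-- pair certificates -/
def pairOK (D : ChevalleyDatum) (L : List (ℕ × ℕ)) : Bool :=
  (List.range D.rank).all fun a =>
    let q := L.getD a (0, 0)
    decide (q.1 < D.nroots) && decide (q.2 < D.nroots) && q.2 != q.1 && q.2 != D.neg q.1 &&
      (D.commTerms q.1 q.2 == [(D.simple a, 1, 1, 1)] || D.commTerms q.1 q.2 == [(D.simple a, -1, 1, 1)])

theorem exists_pairs (hD : D ∈ [chevD4, chevF4, chevE6, chevE7, chevE8]) : ∃ L, pairOK D L = true := by
  simp only [List.mem_cons, List.not_mem_nil, or_false] at hD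
  rcases hD with rfl | rfl | rfl | rfl | rfl
  · exact ⟨[(6, 22), (1, 23), (3, 22), (2, 22)], by decide +kernel⟩
  · exact ⟨[(7, 44), (8, 40), (2, 46), (1, 47)], by decide +kernel⟩
  · exact ⟨[(16, 66), (1, 71), (5, 69), (2, 70), (3, 69), (4, 68)], by decide +kernel⟩
  · exact ⟨[(1, 125), (7, 122), (2, 124), (3, 123), (4, 122), (5, 121), (6, 120)], by decide +kernel⟩
  · exact ⟨[(14, 233), (7, 234), (6, 234), (5, 235), (4, 236), (3, 237), (2, 238), (1, 239)], by decide +kernel⟩

theorem subset_dataList (hD : D ∈ [chevD4, chevF4, chevE6, chevE7, chevE8]) : D ∈ dataList := by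
  simp only [dataList, List.mem_cons, List.not_mem_nil, or_false] at hD ⊢
  tauto

theorem perfect_big (hD : D ∈ [chevD4, chevF4, chevE6, chevE7, chevE8]) : commutator ↥(D.group F) = ⊤ := by
  obtain ⟨L, hL⟩ := exists_pairs hD
  refine perfect_of_base (subset_dataList hD) fun a ha t => ?_
  simp only [pairOK, List.all_eq_true, List.mem_range, Bool.and_eq_true, Bool.or_eq_true, decide_eq_true_eq,
    bne_iff_ne, beq_iff_eq] at hL
  obtain ⟨⟨⟨⟨h1, h2⟩, h3⟩, h4⟩, h5⟩ := hL a ha
  rcases h5 with h5 | h5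
  · exact mem_of_pair _ h1 h2 h3 h4 h5 (by simp) t
  · exact mem_of_pair _ h1 h2 h3 h4 h5 (by simp) t

theorem perfect_small (hD : D = chevG2 ∨ D = chevB2) (hF : ∃ a : F, a ≠ 0 ∧ a ≠ 1) :
    commutator ↥(D.group F) = ⊤ := by
  have hD' : D ∈ dataList := by rcases hD with rfl | rfl <;> simp [dataList]
  obtain ⟨c, hc0, hc1⟩ := hF
  refine perfect_of_base hD' fun a ha t => ?_
  by_cases hc2 : c ^ 2 = 1
  · have hm : c = -1 := by
      rcases sq_eq_one_iff.1 hc2 with h | h
      exacts [absurd h hc1, h]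
    subst hm
    have h2 : (2 : F) ≠ 0 := fun h => hc1 (by linear_combination -h)
    rcases hD with rfl | rfl
    · have hoo : Odd (chevG2.cartan (1 - a) (chevG2.simple a)) := by
        replace ha : a < 2 := ha
        interval_cases a <;> decide +kernel
      refine mem_of_scaled hD' (i := 1 - a) (show 1 - a < 2 by omega) (Rel.simple_lt hD' ha) hc0 ?_ t
      rw [hoo.neg_one_zpow]; exact hc1
    · replace ha : a < 2 := ha
      interval_cases a
      · have hoo : Odd (chevB2.cartan 1 (chevB2.simple 0)) := by decide +kernel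
        refine mem_of_scaled hD' (i := 1) (show 1 < 2 by norm_num) (Rel.simple_lt hD' (show 0 < 2 by norm_num)) hc0 ?_ t
        rw [hoo.neg_one_zpow]; exact hc1
      · obtain ⟨M, hM, hT⟩ : ∃ M : ℤ, (M = 2 ∨ M = -2) ∧ chevB2.commTerms 2 6 = [(chevB2.simple 1, M, 1, 1)] := by
          first
            | exact ⟨2, Or.inl rfl, by decide +kernel⟩
            | exact ⟨-2, Or.inr rfl, by decide +kernel⟩
        refine mem_of_pair hD' (r := 2) (s := 6) (by decide) (by decide) (by decide) (by decide +kernel) hT ?_ t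
        rcases hM with rfl | rfl <;> simpa using h2
  · refine mem_of_scaled hD' (i := a) ha (Rel.simple_lt hD' ha) hc0 ?_ t
    rw [(Rel.refl hD' ha).cartan_p]; exact_mod_cast hc2

/-- adjacency of fundamental roots -/
def adj (D : ChevalleyDatum) (i j : ℕ) : Bool := i != j && D.cartan i (D.simple j) != 0

theorem adj_act (hD : D ∈ dataList) {i j : ℕ} (hi : i < D.rank) (hj : j < D.rank) (h : adj D i j = true) :
    D.reflectRoot i (D.reflectRoot j (D.simple j)) ≠ D.reflectRoot j (D.reflectRoot i (D.simple j)) := by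
  have key : ∀ D' ∈ dataList, ((List.range D'.rank).all fun i => (List.range D'.rank).all fun j => !adj D' i j ||
      (D'.reflectRoot i (D'.reflectRoot j (D'.simple j)) != D'.reflectRoot j (D'.reflectRoot i (D'.simple j)))) = true := by
    intro D' hD'
    simp only [dataList, List.mem_cons, List.not_mem_nil, or_false] at hD'
    rcases hD' with rfl | rfl | rfl | rfl | rfl | rfl | rfl <;> decide +kernel
  have := key D hD
  simp only [List.all_eq_true, List.mem_range, Bool.or_eq_true, bne_iff_ne, Bool.not_eq_true'] at this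
  rcases this i hi j hj with h' | h'
  · rw [h] at h'; exact absurd h' (by simp)
  · exact h'

theorem connected (hD : D ∈ dataList) {J : List ℕ} (hJ : J.Sublist (List.range D.rank)) (h0 : J ≠ [])
    (h1 : J ≠ List.range D.rank) : ∃ i ∈ J, ∃ j < D.rank, j ∉ J ∧ adj D i j = true := by
  have key : ∀ D' ∈ dataList, ((List.range D'.rank).sublists.all fun J => J == [] || J == List.range D'.rank ||
      J.any fun i => (List.range D'.rank).any fun j => !J.contains j && adj D' i j) = true := by
    intro D' hD'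
    simp only [dataList, List.mem_cons, List.not_mem_nil, or_false] at hD'
    rcases hD' with rfl | rfl | rfl | rfl | rfl | rfl | rfl <;> decide +kernel
  have := key D hD
  simp only [List.all_eq_true, List.mem_sublists, Bool.or_eq_true, beq_iff_eq, List.any_eq_true, List.mem_range,
    Bool.and_eq_true, Bool.not_eq_true', List.contains_iff_mem] at this
  rcases this J hJ with (h | h) | ⟨i, hi, j, hj, hjJ, hadj⟩
  · exact absurd h h0
  · exact absurd h h1
  · exact ⟨i, hi, j, hj, by simpa using hjJ, hadj⟩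

theorem irreducible (hD : D ∈ dataList) : (BN.bnPair (F := F) hD).Irreducible := by
  classical
  intro J hJS hJne hJc
  let nn : ℕ → ↥(D.group F) := fun i => ⟨N.ni hD F i, BN.ni_mem_group hD i⟩
  have hgen : ∀ n ∈ (BN.bnPair (F := F) hD).S, ∃ i < D.rank, n = nn i := fun n hn => by
    obtain ⟨i, hi, he⟩ := BN.genSet_val hD hn
    exact ⟨i, hi, Subtype.ext he⟩
  set L := (List.range D.rank).filter fun i => decide (nn i ∈ J) with hL
  have h0 : L ≠ [] := by
    obtain ⟨n, hn⟩ := hJne
    obtain ⟨i, hi, rfl⟩ := hgen n (hJS hn)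
    exact List.ne_nil_of_mem (a := i) (by rw [hL, List.mem_filter]; simp [hi, hn])
  have h1 : L ≠ List.range D.rank := by
    obtain ⟨n, hn⟩ := hJc
    obtain ⟨i, hi, rfl⟩ := hgen n hn.1
    intro e
    have : i ∈ L := e ▸ List.mem_range.2 hi
    rw [hL, List.mem_filter, decide_eq_true_eq] at this
    exact hn.2 this.2
  obtain ⟨i, hiL, j, hj, hjL, hadj⟩ := connected hD List.filter_sublist h0 h1
  rw [List.mem_filter, List.mem_range, decide_eq_true_eq] at hiL
  rw [ List.mem_filter, List.mem_range, decide_eq_true_eq] at hjL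
  refine ⟨nn i, hiL.2, nn j, ⟨⟨j, hj, nGL_val hD _ _⟩, fun h => hjL ⟨hj, h⟩⟩, fun hB => ?_⟩
  change nn i * nn j * (nn i)⁻¹ * (nn j)⁻¹ ∈ (D.borelSubgroup F).subgroupOf (D.group F) at hB
  simp only [Subgroup.mem_subgroupOf, Subgroup.coe_mul, Subgroup.coe_inv, nn] at hB
  have hl : ∀ k ∈ [i, j], k < D.rank := by simp [hiL.1, hj]
  have hl' : ∀ k ∈ [j, i], k < D.rank := by simp [hiL.1, hj]
  have hmem : N.ni hD F i * N.ni hD F j * (N.ni hD F i)⁻¹ * (N.ni hD F j)⁻¹ ∈ D.monomialSubgroup F := by
    have a := nGL_one_mem_monomial (F := F) hD (Rel.simple_lt hD hiL.1)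
    have b := nGL_one_mem_monomial (F := F) hD (Rel.simple_lt hD hj)
    exact mul_mem (mul_mem (mul_mem a b) (inv_mem a)) (inv_mem b)
  have hH := (BN.inf_monomial hD).le (Subgroup.mem_inf.2 ⟨hB, hmem⟩)
  have hH' := N.diag_nW hD hl' hH
  have e := N.act_congr hD (F := F) (l := [i, j]) (m := [j, i]) hl hl' hH'
    (by simp [N.nW]; group) (Rel.simple_lt hD hj)
  exact adj_act hD hiL.1 hj hadj e

theorem nontrivial_group (hD : D ∈ dataList) : Nontrivial ↥(D.group F) := by
  refine ⟨⟨1, ⟨xGL hD F (D.simple 0) 1, xGL_mem_group hD _ _⟩, fun h => ?_⟩⟩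
  have h0 : 0 < D.rank := by
    simp only [dataList, List.mem_cons, List.not_mem_nil, or_false] at hD
    rcases hD with rfl | rfl | rfl | rfl | rfl | rfl | rfl <;> decide +kernel
  have := congrArg (fun g : ↥(D.group F) => ((g : GL D.Idx F) : Matrix D.Idx D.Idx F)) h
  exact one_ne_zero ((XOne.x_eq_one_iff hD (Rel.simple_lt hD h0) (1 : F)).1 this.symm)

theorem simple_of_perfect (hD : D ∈ dataList) (hperf : commutator ↥(D.group F) = ⊤) :
    IsSimpleGroup ↥(D.group F) ∧ ¬ IsMulCommutative ↥(D.group F) := by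
  have := nontrivial_group (F := F) hD
  refine ⟨CfsgLib.BNPair.Parabolic.isSimpleGroup (BN.bnPair hD) (irreducible hD) ?_ hperf (Opposite.borel_core hD), fun h => ?_⟩
  · have := BH.borel_solvable (F := F) hD
    exact Group.isSolvable_of_isSolvable_injective
      (f := (Subgroup.subgroupOfEquivOfLe (borel_le_group hD)).toMonoidHom) (MulEquiv.injective _)
  · have : commutator ↥(D.group F) = ⊥ := by
      rw [commutator_eq_bot_iff_center_eq_top, eq_top_iff]
      exact fun x _ => Subgroup.mem_center_iff.2 fun y => h.is_comm.comm y x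
    exact absurd (hperf.symm.trans this) top_ne_bot

end CfsgLib.Chev.Simple
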