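import Cfsg.Agent.Lib.Chev.Group.Canonical
import Cfsg.Agent.Lib.Chev.Group.Simple
import Cfsg.Agent.Lib.Chev.Group.Opposite

/-! Characters of the root lattice and the corresponding diagonal matrices. -/
set_option autoImplicit false
set_option maxRecDepth 100000
open Cfsg.Lie
open scoped Matrix MatrixGroups

namespace CfsgLib.Chev.RootChar

open CfsgLib.Chev CfsgLib.Chev.Checks CfsgLib.Chev.Basic

variable {D : ChevalleyDatum} {F : Type*} [Field F]

theorem exists_pred (hD : D ∈ dataList) {q : ℕ} (hq : D.IsPosRoot q) :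
    (∃ a, a < D.rank ∧ q = D.simple a) ∨
      ∃ a s, a < D.rank ∧ D.nroots / 2 ≤ s ∧ s < q ∧ D.chainRoot (D.simple a) s 1 = some q := by
  have key : ∀ D' ∈ dataList, ((List.range D'.nroots).all fun q => decide (q < D'.nroots / 2) ||
      (List.range D'.rank).any (fun a => D'.simple a == q) ||
      (List.range D'.rank).any fun a => (D'.chain.getD (D'.simple a) #[]).toList.any fun e =>
        decide (D'.nroots / 2 ≤ e.1) && decide (e.1 < q) && (e.2.toList.map Prod.fst)[0]? == some q &&
          D'.chainRoot (D'.simple a) e.1 1 == some q) = true := by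
    intro D' hD'
    simp only [dataList, List.mem_cons, List.not_mem_nil, or_false] at hD'
    rcases hD' with rfl | rfl | rfl | rfl | rfl | rfl | rfl <;> decide +kernel
  have h := key D hD
  simp only [List.all_eq_true, List.mem_range, Bool.or_eq_true, decide_eq_true_eq, List.any_eq_true,
    Bool.and_eq_true, beq_iff_eq] at h
  rcases h q hq.1 with (h1 | ⟨a, ha, e⟩) | ⟨a, ha, e, -, ⟨⟨⟨h1, h2⟩, -⟩, h3⟩⟩
  · have := (Weight.pos_iff hD hq.1).1 hq; omega
  · exact Or.inl ⟨a, ha, e.symm⟩
  · exact Or.inr ⟨a, e.1, ha, h1, h2, h3⟩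

/-- value on a root of the character given on the fundamental roots -/
noncomputable def ext (hD : D ∈ dataList) (c : Fin D.rank → Fˣ) (r : ℕ) : Fˣ :=
  ∏ j : Fin D.rank, c j ^ Weight.coef hD j r

theorem rootChar_eq (hD : D ∈ dataList) {χ : ℕ → Fˣ} (hχ : D.IsRootCharacter χ) :
    ∀ r, r < D.nroots → χ r = ext hD (fun j => χ (D.simple j)) r := by
  have hpos : ∀ r, D.IsPosRoot r → χ r = ext hD (fun j => χ (D.simple j)) r := by
    intro r
    induction r using Nat.strong_induction_on with
    | _ r ih =>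
      intro hr
      rcases exists_pred hD hr with ⟨a, ha, rfl⟩ | ⟨a, s, ha, hsh, hsr, hc⟩
      · rw [ext, Finset.prod_eq_single ⟨a, ha⟩]
        · rw [Weight.coef_simple hD ha ha, if_pos rfl, zpow_one]
        · intro j _ hne
          rw [Weight.coef_simple hD ha j.2, if_neg (fun e => hne (Fin.ext e.symm)), zpow_zero]
        · exact fun h => absurd (Finset.mem_univ _) h
      · have hsl : s < D.nroots := hsr.trans hr.1
        have hp := Rel.simple_lt hD ha
        rw [hχ.2 _ _ _ hp hsl hc, ih s hsr ((Weight.pos_iff hD hsl).2 hsh)]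
        have e : χ (D.simple a) = ext hD (fun j => χ (D.simple j)) (D.simple a) := by
          rw [ext, Finset.prod_eq_single ⟨a, ha⟩]
          · rw [Weight.coef_simple hD ha ha, if_pos rfl, zpow_one]
          · intro j _ hne
            rw [Weight.coef_simple hD ha j.2, if_neg (fun e => hne (Fin.ext e.symm)), zpow_zero]
          · exact fun h => absurd (Finset.mem_univ _) h
        rw [e]
        simp only [ext, ← Finset.prod_mul_distrib]
        refine Finset.prod_congr rfl fun j _ => ?_
        rw [← zpow_add, Weight.coef_chain hD j.2 hp hsl le_rfl hc]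
        congr 1
        push_cast
        ring
  intro r hr
  rcases Checks.pos_or_neg hD hr with h | h
  · exact hpos r h
  · have hn := Checks.neg_pos_of_neg hD hr h
    have := hχ.1 _ hn.1
    rw [Checks.neg_neg_root hD hr, hpos _ hn] at this
    rw [this]
    simp only [ext, ← Finset.prod_inv_distrib]
    exact Finset.prod_congr rfl fun j _ => by rw [Weight.coef_neg hD j.2 hr, zpow_neg, inv_inv]

/-- the grading by a coefficient -/
noncomputable def coefGrading (hD : D ∈ dataList) (j : Fin D.rank) : Weight.Grading D where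
  P s := Weight.coef hD j s
  neg _ hs := Weight.coef_neg hD j.2 hs
  chain _ _ _ _ hr hs hk hq := Weight.coef_chain hD j.2 hr hs hk hq

theorem ext_conj (hD : D ∈ dataList) (c : Fin D.rank → Fˣ) {r : ℕ} (hr : r < D.nroots) (t : F) :
    D.charDiag F (ext hD c) * D.x F r t = D.x F r ((ext hD c r : F) * t) * D.charDiag F (ext hD c) := by
  let w : ℕ → Fˣ := fun k => ∏ j : Fin D.rank, c j ^ Weight.wt (coefGrading hD j) k
  refine Sem.ext_e fun j hj => ?_
  have hL := Tables.lookup_of_valid (Rel.tab_valid hD)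
  have dg : ∀ k : ℕ, D.charDiag F (ext hD c) *ᵥ Sem.e D F k = (w k : F) • Sem.e D F k := by
    intro k
    unfold Sem.e ChevalleyDatum.charDiag
    split_ifs with h1 h2
    · rw [Matrix.diagonal_mulVec_single, ← Pi.single_smul]; simp [w, Weight.wt, h1]
    · rw [Matrix.diagonal_mulVec_single, ← Pi.single_smul]; simp [w, ext, Weight.wt, h1, coefGrading]
    · simp
  rw [← Matrix.mulVec_mulVec, ← Matrix.mulVec_mulVec, Sem.x_mulVec_e hL hr, dg j, Matrix.mulVec_smul,
    Sem.x_mulVec_e hL hr]
  have key : ∀ l : List (ℕ × ℤ × ℕ), (∀ q ∈ l, w q.1 = w j * ext hD c r ^ q.2.2) →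
      D.charDiag F (ext hD c) *ᵥ (l.map fun q => ((q.2.1 : F) * t ^ q.2.2) • Sem.e D F q.1).sum =
        (w j : F) • (l.map fun q => ((q.2.1 : F) * ((ext hD c r : F) * t) ^ q.2.2) • Sem.e D F q.1).sum := by
    intro l hl
    induction l with
    | nil => simp
    | cons q l ih =>
      rw [List.map_cons, List.map_cons, List.sum_cons, List.sum_cons, Matrix.mulVec_add, smul_add,
        ih fun q' hq' => hl q' (List.mem_cons_of_mem _ hq'), Matrix.mulVec_smul, dg, smul_smul, smul_smul]
      congr 2
      rw [hl q List.mem_cons_self, Units.val_mul, Units.val_pow_eq_pow_val, mul_pow]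
      ring
  refine key _ fun q hq => ?_
  simp only [w, ext, ← Finset.prod_pow, ← Finset.prod_mul_distrib]
  refine Finset.prod_congr rfl fun i _ => ?_
  rw [(Weight.col_wt hD (coefGrading hD i) hr hq).1, zpow_add, ← zpow_natCast, ← zpow_mul]
  congr 2
  show (q.2.2 : ℤ) * Weight.coef hD i r = _
  ring

theorem charDiag_congr {χ χ' : ℕ → Fˣ} (h : ∀ r, r < D.nroots → χ r = χ' r) :
    D.charDiag F χ = D.charDiag F χ' := by
  unfold ChevalleyDatum.charDiag
  congr 1
  funext k
  rcases k with k | s
  · rfl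
  · simp [h s s.2]

theorem char_conj (hD : D ∈ dataList) {χ : ℕ → Fˣ} (hχ : D.IsRootCharacter χ) {r : ℕ} (hr : r < D.nroots) (t : F) :
    D.charDiag F χ * D.x F r t * D.charDiag F (fun s => (χ s)⁻¹) = D.x F r ((χ r : F) * t) := by
  have e := ext_conj hD (fun j => χ (D.simple j)) hr t
  rw [← charDiag_congr (rootChar_eq hD hχ), ← rootChar_eq hD hχ r hr] at e
  rw [e, mul_assoc]
  unfold ChevalleyDatum.charDiag
  rw [Matrix.diagonal_mul_diagonal]
  have : (fun i => Sum.elim (fun _ => (1 : F)) (fun r : Fin D.nroots => (χ r.val : F)) i *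
      Sum.elim (fun _ => (1 : F)) (fun r : Fin D.nroots => (((χ r.val)⁻¹ : Fˣ) : F)) i) = fun _ : D.Idx => (1 : F) := by
    funext k; rcases k with k | k <;> simp
  rw [this, Matrix.diagonal_one, mul_one]

theorem char_mem_diagonal (hD : D ∈ dataList) {χ : ℕ → Fˣ} (hχ : D.IsRootCharacter χ) {g : GL D.Idx F}
    (hg : g ∈ D.group F) (hgχ : (g : Matrix D.Idx D.Idx F) = D.charDiag F χ) : g ∈ D.diagonalSubgroup F := by
  have hdiag : (g : Matrix D.Idx D.Idx F) = Matrix.diagonal (Sum.elim (fun _ => (1 : F)) fun r => (χ r.val : F)) := hgχ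
  have hx : ∀ r < D.nroots, ∀ t : F, g * xGL hD F r t * g⁻¹ = xGL hD F r ((χ r : F) * t) := fun r hr t => by
    rw [mul_inv_eq_iff_eq_mul]
    refine Units.ext ?_
    rw [Units.val_mul, Units.val_mul, xGL_val, xGL_val, hgχ]
    have e := ext_conj hD (fun j => χ (D.simple j)) hr t
    rwa [← charDiag_congr (rootChar_eq hD hχ), ← rootChar_eq hD hχ r hr] at e
  have hH : ∀ h ∈ D.diagonalSubgroup F, g * h * g⁻¹ = h := fun h hh => by
    obtain ⟨d, hd, -⟩ := BH.torus_of_mem hD hh
    rw [mul_inv_eq_iff_eq_mul]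
    refine Units.ext ?_
    rw [Units.val_mul, Units.val_mul, hd, hdiag, Matrix.diagonal_mul_diagonal, Matrix.diagonal_mul_diagonal]
    simp [mul_comm]
  have hBconj : ∀ b ∈ D.borelSubgroup F, g * b * g⁻¹ ∈ D.borelSubgroup F := by
    have h : D.borelSubgroup F ≤ (D.borelSubgroup F).comap (MulAut.conj g).toMonoidHom := by
      refine sup_le (RootGen.gen_le hD (P := D.IsPosRoot) fun r hr t => ?_) fun h hh => ?_
      · rw [Subgroup.mem_comap, MulEquiv.coe_toMonoidHom, MulAut.conj_apply, hx r hr.1]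
        exact BN.mem_borel_of_pos hD hr _
      · rw [Subgroup.mem_comap, MulEquiv.coe_toMonoidHom, MulAut.conj_apply, hH h hh]
        exact Subgroup.mem_sup_right hh
    exact fun b hb => h hb
  let P := BN.bnPair (F := F) hD
  have hgB : g ∈ D.borelSubgroup F := by
    have hn := CfsgLib.BNPair.Parabolic.normalizer_parabolic P (J := ∅) (Set.empty_subset _)
    have hp : P.parabolic ∅ = P.B := by simp [Cfsg.BNPair.parabolic]
    have hmem : (⟨g, hg⟩ : ↥(D.group F)) ∈ P.parabolic ∅ := by
      rw [← hn, hp]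
      rw [Subgroup.mem_normalizer_iff]
      refine fun b => ⟨fun hb => Subgroup.mem_subgroupOf.2 (hBconj _ (Subgroup.mem_subgroupOf.1 hb)), fun hb => ?_⟩
      obtain ⟨u, hu, h, hh, e⟩ := (BH.mem_borel_iff hD).1 (Subgroup.mem_subgroupOf.1 hb)
      refine Subgroup.mem_subgroupOf.2 ?_
      have hb' : (b : GL D.Idx F) = (g⁻¹ * u * g) * h := by
        have e' : g * (b : GL D.Idx F) * g⁻¹ = u * h := e.symm
        calc (b : GL D.Idx F) = g⁻¹ * (g * b * g⁻¹) * g := by group
          _ = g⁻¹ * (u * (g * h * g⁻¹)) * g := by rw [e', hH h hh]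
          _ = _ := by group
      rw [hb']
      refine Subgroup.mem_sup_left ?_ |> fun h1 => mul_mem h1 (Subgroup.mem_sup_right hh)
      have hinv : D.posUnipotent F ≤ (D.posUnipotent F).comap (MulAut.conj g⁻¹).toMonoidHom :=
        RootGen.gen_le hD (P := D.IsPosRoot) fun r hr t => by
          rw [Subgroup.mem_comap, MulEquiv.coe_toMonoidHom, MulAut.conj_apply]
          have e' := hx r hr.1 (((χ r)⁻¹ : Fˣ) * t)
          rw [← mul_assoc, ← Units.val_mul, mul_inv_cancel, Units.val_one, one_mul] at e'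
          rw [← e']
          convert xGL_mem_pos hD hr (F := F) (((χ r)⁻¹ : Fˣ) * t) using 1
          group
      have := hinv hu
      simpa using this
    rw [hp] at hmem
    exact Subgroup.mem_subgroupOf.1 hmem
  obtain ⟨u, hu, h, hh, rfl⟩ := (BH.mem_borel_iff hD).1 hgB
  obtain ⟨d', hd', -⟩ := BH.torus_of_mem hD (inv_mem hh)
  have hu' : u = 1 := by
    refine BH.eq_one_of_diag (Triangular.posUnipotent_le_uniTri hD hu)
      (d := fun k => Sum.elim (fun _ => (1 : F)) (fun r => (χ r.val : F)) k * d' k) ?_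
    have : (u : Matrix D.Idx D.Idx F) = ((u * h : GL D.Idx F) : Matrix D.Idx D.Idx F) * ((h⁻¹ : GL D.Idx F) : Matrix D.Idx D.Idx F) := by
      rw [← Units.val_mul]; simp
    rw [this, hdiag, hd', Matrix.diagonal_mul_diagonal]
  rw [hu', one_mul]
  exact hh

end CfsgLib.Chev.RootChar
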