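import Cfsg.Agent.Lib.Chev.Group.RootGen
import Cfsg.Agent.Lib.Chev.Group.BN
import Cfsg.Agent.Lib.Chev.Weyl.Action
import Cfsg.Agent.Lib.BNPair.Parabolic

/-! Parabolic subgroups, Levi decomposition, normalisers of unipotent radicals. -/
set_option autoImplicit false
set_option maxRecDepth 100000
open Cfsg.Lie
open scoped Matrix MatrixGroups

namespace CfsgLib.Chev.Parabolic

open CfsgLib.Chev CfsgLib.Chev.Checks CfsgLib.Chev.Basic

variable {D : ChevalleyDatum} {F : Type*} [Field F]

theorem inSub_iff (hD : D ∈ dataList) {J : Set ℕ} {r : ℕ} :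
    D.InRootSub J r ↔ r < D.nroots ∧ ∀ i, i < D.rank → i ∉ J → Weight.coef hD i r = 0 :=
  ⟨fun h => ⟨h.1, fun i hi hJ => (Weight.coef_eq_zero_iff hD hi h.1).2 (h.2 i hi hJ)⟩,
    fun h => ⟨h.1, fun i hi hJ => (Weight.coef_eq_zero_iff hD hi h.1).1 (h.2 i hi hJ)⟩⟩

theorem simple_inSub (hD : D ∈ dataList) {J : Set ℕ} {j : ℕ} (hj : j < D.rank) :
    D.InRootSub J (D.simple j) ↔ j ∈ J := by
  rw [inSub_iff hD]
  refine ⟨fun h => ?_, fun h => ⟨Rel.simple_lt hD hj, fun i hi hiJ => ?_⟩⟩
  · by_contra hJ
    have := h.2 j hj hJ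
    rw [Weight.coef_simple hD hj hj, if_pos rfl] at this
    exact one_ne_zero this
  · rw [Weight.coef_simple hD hj hi, if_neg fun (e : j = i) => hiJ (e ▸ h)]

theorem neg_inSub (hD : D ∈ dataList) {J : Set ℕ} {r : ℕ} (h : D.InRootSub J r) : D.InRootSub J (D.neg r) := by
  rw [inSub_iff hD] at h ⊢
  exact ⟨Checks.neg_lt hD h.1, fun i hi hJ => by rw [Weight.coef_neg hD hi h.1, h.2 i hi hJ, neg_zero]⟩

/-- a non-fundamental positive root has a lowering reflection inside its support -/
theorem exists_lower (hD : D ∈ dataList) {r : ℕ} (hr : D.IsPosRoot r) :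
    (∃ a, a < D.rank ∧ r = D.simple a) ∨ ∃ a, a < D.rank ∧ 0 < Weight.coef hD a r ∧ 0 < D.cartan a r := by
  have key : ∀ D' ∈ dataList, ((List.range D'.nroots).all fun q => decide (q < D'.nroots / 2) ||
      (List.range D'.rank).any (fun a => D'.simple a == q) ||
      (List.range D'.rank).any fun a => (D'.coroot.getD q #[]).getD a 0 != 0 && decide (0 < D'.cartan a q)) = true := by
    intro D' hD'
    simp only [dataList, List.mem_cons, List.not_mem_nil, or_false] at hD'
    rcases hD' with rfl | rfl | rfl | rfl | rfl | rfl | rfl <;> decide +kernel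
  have h := key D hD
  simp only [List.all_eq_true, List.mem_range, Bool.or_eq_true, decide_eq_true_eq, List.any_eq_true,
    Bool.and_eq_true, beq_iff_eq, bne_iff_ne] at h
  rcases h r hr.1 with (h1 | ⟨a, ha, e⟩) | ⟨a, ha, h1, h2⟩
  · have := (Weight.pos_iff hD hr.1).1 hr; omega
  · exact Or.inl ⟨a, ha, e.symm⟩
  · exact Or.inr ⟨a, ha, lt_of_le_of_ne (Weight.coef_nonneg hD ha hr)
      fun e => h1 ((Weight.coef_eq_zero_iff hD ha hr.1).1 e.symm), h2⟩

/-- induction along the lowering reflections inside `Φ_J` -/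
theorem sub_induction (hD : D ∈ dataList) {J : Set ℕ} {P : ℕ → Prop}
    (base : ∀ j ∈ J, j < D.rank → P (D.simple j))
    (step : ∀ j ∈ J, j < D.rank → ∀ r, D.IsPosRoot r → P r → P (D.reflectRoot j r))
    {r : ℕ} (hr : D.IsPosRoot r) (hJ : D.InRootSub J r) : P r := by
  suffices h : ∀ n : ℕ, ∀ r, D.IsPosRoot r → D.InRootSub J r →
      (∑ a ∈ Finset.range D.rank, Weight.coef hD a r) ≤ n → P r from
    h (∑ a ∈ Finset.range D.rank, Weight.coef hD a r).toNat r hr hJ (Int.self_le_toNat _)
  intro n
  induction n with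
  | zero =>
    intro r hr _ hle
    obtain ⟨a, ha, hpos⟩ := Weyl.exists_coef_pos hD hr
    have : Weight.coef hD a r ≤ ∑ a ∈ Finset.range D.rank, Weight.coef hD a r :=
      Finset.single_le_sum (f := fun a => Weight.coef hD a r)
        (fun b hb => Weight.coef_nonneg hD (Finset.mem_range.1 hb) hr) (Finset.mem_range.2 ha)
    omega
  | succ n ih =>
    intro r hr hJ hle
    rcases exists_lower hD hr with ⟨a, ha, rfl⟩ | ⟨a, ha, hc, hA⟩
    · exact base a ((simple_inSub hD ha).1 hJ) ha
    · have hJ' := (inSub_iff hD).1 hJ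
      have haJ : a ∈ J := by
        by_contra h
        exact hc.ne' (hJ'.2 a ha h)
      by_cases hne : r = D.simple a
      · exact hne ▸ base a haJ ha
      have hw := Weight.reflect_pos hD ha hr hne
      have hcoef : ∀ j, j < D.rank → Weight.coef hD j (D.reflectRoot a r) =
          Weight.coef hD j r - if a = j then D.cartan a r else 0 := fun j hj => Weyl.coef_reflect hD ha hj hr.1
      have hsum : ∑ j ∈ Finset.range D.rank, Weight.coef hD j (D.reflectRoot a r) =
          (∑ j ∈ Finset.range D.rank, Weight.coef hD j r) - D.cartan a r := by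
        rw [Finset.sum_congr rfl fun j hj => hcoef j (Finset.mem_range.1 hj), Finset.sum_sub_distrib,
          Finset.sum_ite_eq, if_pos (Finset.mem_range.2 ha)]
      have hP : P (D.reflectRoot a r) := ih _ hw ((inSub_iff hD).2 ⟨hw.1, fun i hi hiJ => by
        rw [hcoef i hi, if_neg fun (e : a = i) => hiJ (e ▸ haJ), hJ'.2 i hi hiJ, sub_zero]⟩) (by omega)
      have := step a haJ ha _ hw hP
      rwa [Rel.reflect_invol hD ha hr.1] at this

theorem n_mem (hD : D ∈ dataList) {J : Set ℕ} {j : ℕ} (hJ : j ∈ J) (hj : j < D.rank) :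
    N.ni hD F j ∈ D.parabolicSubgroup F J :=
  Subgroup.mem_sup_right (Subgroup.subset_closure ⟨j, hJ, hj, nGL_val hD _ _⟩)

theorem root_mem (hD : D ∈ dataList) {J : Set ℕ} {r : ℕ} (hr : D.InRootSub J r) (t : F) :
    xGL hD F r t ∈ D.parabolicSubgroup F J := by
  rcases Checks.pos_or_neg hD hr.1 with h | h
  · exact Subgroup.mem_sup_left (BN.mem_borel_of_pos hD h t)
  have hp := Checks.neg_pos_of_neg hD hr.1 h
  have key : ∀ t : F, xGL hD F (D.neg (D.neg r)) t ∈ D.parabolicSubgroup F J :=
    sub_induction hD (P := fun s => ∀ t : F, xGL hD F (D.neg s) t ∈ D.parabolicSubgroup F J)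
      (fun j hJ hj t => by
        have hsl := Rel.simple_lt hD hj
        have hn := n_mem (F := F) hD hJ hj
        have e := Rel.conj_GL (F := F) hD hj hsl ((Rel.eta hD j (D.simple j) : F) * t)
        rw [← mul_assoc, Rel.etaF_sq, one_mul, show D.reflectRoot j (D.simple j) = D.neg (D.simple j) by
          simp [ChevalleyDatum.reflectRoot]] at e
        rw [← e]
        exact mul_mem (mul_mem hn (Subgroup.mem_sup_left (BN.mem_borel_of_pos hD (N.simple_pos hD hj) _))) (inv_mem hn))
      (fun j hJ hj s hs ih t => by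
        have hn := n_mem (F := F) hD hJ hj
        have hsl := Checks.neg_lt hD hs.1
        have e := Rel.conj_GL (F := F) hD hj hsl ((Rel.eta hD j (D.neg s) : F) * t)
        rw [← mul_assoc, Rel.etaF_sq, one_mul, Rel.reflect_neg hD hj hs.1] at e
        rw [← e]
        exact mul_mem (mul_mem hn (ih _)) (inv_mem hn))
      hp (neg_inSub hD hr)
  rw [Checks.neg_neg_root hD hr.1] at key
  exact key t

theorem eq_generated (hD : D ∈ dataList) (J : Set ℕ) :
    D.parabolicSubgroup F J = D.diagonalSubgroup F ⊔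
      RootGen.gen D F (fun r => D.IsPosRoot r ∨ D.InRootSub J r) := by
  refine le_antisymm (sup_le (sup_le ?_ le_sup_left) ((Subgroup.closure_le _).2 ?_))
    (sup_le (le_sup_right.trans le_sup_left) (RootGen.gen_le hD fun r hr t => ?_))
  · exact (RootGen.gen_mono fun r hr => Or.inl hr).trans le_sup_right
  · rintro g ⟨j, hJ, hj, hg⟩
    obtain rfl : g = N.ni hD F j := Units.ext (hg.trans (nGL_val hD _ _).symm)
    have h1 : D.IsPosRoot (D.simple j) ∨ D.InRootSub J (D.simple j) := Or.inl (N.simple_pos hD hj)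
    have h2 : D.IsPosRoot (D.neg (D.simple j)) ∨ D.InRootSub J (D.neg (D.simple j)) :=
      Or.inr (neg_inSub hD ((simple_inSub hD hj).2 hJ))
    have m1 := Subgroup.mem_sup_right (S := D.diagonalSubgroup F)
      (RootGen.xGL_mem_gen hD (F := F) (P := fun r => D.IsPosRoot r ∨ D.InRootSub J r) h1 1)
    have m2 := Subgroup.mem_sup_right (S := D.diagonalSubgroup F)
      (RootGen.xGL_mem_gen hD (F := F) (P := fun r => D.IsPosRoot r ∨ D.InRootSub J r) h2 (-(1 : F)⁻¹))
    exact mul_mem (mul_mem m1 m2) m1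
  · rcases hr with h | h
    · exact Subgroup.mem_sup_left (BN.mem_borel_of_pos hD h t)
    · exact root_mem hD h t

/-- the roots of `U_J` -/
def Rad (D : ChevalleyDatum) (J : Set ℕ) (r : ℕ) : Prop := D.IsPosRoot r ∧ ¬ D.InRootSub J r

theorem unipotentRadical_eq (J : Set ℕ) : D.unipotentRadical F J = RootGen.gen D F (Rad D J) := by
  unfold ChevalleyDatum.unipotentRadical RootGen.gen Rad
  simp only [and_assoc]

theorem le_normalizer (hD : D ∈ dataList) (J : Set ℕ) :
    D.parabolicSubgroup F J ≤ Subgroup.normalizer (D.unipotentRadical F J : Set (GL D.Idx F)) := by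
  rw [eq_generated hD, unipotentRadical_eq]
  refine sup_le (BH.diagonal_le_normalizer hD (Rad D J)) (RootGen.gen_le hD fun r hr t => ?_)
  have hrl : r < D.nroots := by rcases hr with h | h <;> exact h.1
  refine RootGen.rootSubgroup_le_normalizer hD (P := Rad D J) hrl (fun s hs => ?_) (BN.xGL_mem_root hD hrl t)
  obtain ⟨k, hk, hkJ, hne⟩ : ∃ k, k < D.rank ∧ k ∉ J ∧ Weight.coef hD k s ≠ 0 := by
    by_contra h
    push Not at h
    exact hs.2 ((inSub_iff hD).2 ⟨hs.1.1, h⟩)
  have hsk : 0 < Weight.coef hD k s := lt_of_le_of_ne (Weight.coef_nonneg hD hk hs.1) (Ne.symm hne)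
  have hrk : 0 ≤ Weight.coef hD k r := by
    rcases hr with h | h
    · exact Weight.coef_nonneg hD hk h
    · exact (((inSub_iff hD).1 h).2 k hk hkJ).ge
  refine ⟨hs.1.1, fun e => ?_, fun c hc => ?_⟩
  · rw [e, Weight.coef_neg hD hk hrl] at hsk; linarith
  · obtain ⟨hcl, hcc⟩ := RootGen.commTerms_coef hD hk hrl hs.1.1 hc
    have he := (Orbit.commTerms_exp hc).2
    have hpos : 0 < Weight.coef hD k c.1 := by
      rw [hcc]
      exact add_pos_of_nonneg_of_pos (mul_nonneg (Int.natCast_nonneg _) hrk) (mul_pos (by exact_mod_cast he) hsk)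
    exact ⟨RootGen.pos_of_coef_pos hD hk hcl hpos, fun h => hpos.ne' (((inSub_iff hD).1 h).2 k hk hkJ)⟩

theorem sup_levi (hD : D ∈ dataList) (J : Set ℕ) :
    D.unipotentRadical F J ⊔ D.leviSubgroup F J = D.parabolicSubgroup F J := by
  rw [eq_generated hD, unipotentRadical_eq]
  refine le_antisymm ?_ (sup_le (le_sup_of_le_right le_sup_left) (RootGen.gen_le hD fun r hr t => ?_))
  · exact sup_le ((RootGen.gen_mono fun r hr => Or.inl hr.1).trans le_sup_right)
      (sup_le le_sup_left ((RootGen.gen_mono fun r hr => Or.inr hr).trans le_sup_right))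
  · by_cases h : D.InRootSub J r
    · exact Subgroup.mem_sup_right (Subgroup.mem_sup_right (RootGen.xGL_mem_gen hD h t))
    · exact Subgroup.mem_sup_left (RootGen.xGL_mem_gen hD (show Rad D J r from ⟨hr.resolve_right h, h⟩) t)

/-- the grading by the coefficients outside `J` -/
noncomputable def outGrading (hD : D ∈ dataList) (J : Set ℕ) : Weight.Grading D := by
  classical
  exact
  { P := fun r => ∑ k ∈ Finset.range D.rank, if k ∈ J then 0 else Weight.coef hD k r
    neg := fun r hr => by
      rw [← Finset.sum_neg_distrib]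
      refine Finset.sum_congr rfl fun k hk => ?_
      split_ifs
      · simp
      · rw [Weight.coef_neg hD (Finset.mem_range.1 hk) hr]
    chain := fun r s k q hr hs hk hq => by
      rw [Finset.mul_sum, ← Finset.sum_add_distrib]
      refine Finset.sum_congr rfl fun j hj => ?_
      split_ifs
      · simp
      · rw [Weight.coef_chain hD (Finset.mem_range.1 hj) hr hs hk hq] }

theorem out_sub (hD : D ∈ dataList) {J : Set ℕ} {r : ℕ} (hr : D.InRootSub J r) : (outGrading hD J).P r = 0 := by
  classical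
  show (∑ k ∈ Finset.range D.rank, if k ∈ J then 0 else Weight.coef hD k r) = (0 : ℤ)
  refine Finset.sum_eq_zero fun k hk => ?_
  split_ifs with h
  · rfl
  · exact ((inSub_iff hD).1 hr).2 k (Finset.mem_range.1 hk) h

theorem out_rad (hD : D ∈ dataList) {J : Set ℕ} {r : ℕ} (hr : Rad D J r) : 0 < (outGrading hD J).P r := by
  classical
  obtain ⟨k, hk, hkJ, hne⟩ : ∃ k, k < D.rank ∧ k ∉ J ∧ Weight.coef hD k r ≠ 0 := by
    by_contra h
    push Not at h
    exact hr.2 ((inSub_iff hD).2 ⟨hr.1.1, h⟩)
  show (0 : ℤ) < ∑ k ∈ Finset.range D.rank, if k ∈ J then 0 else Weight.coef hD k r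
  refine Finset.sum_pos' (fun j hj => ?_) ⟨k, Finset.mem_range.2 hk, ?_⟩
  · split_ifs
    · exact le_rfl
    · exact Weight.coef_nonneg hD (Finset.mem_range.1 hj) hr.1
  · rw [if_neg hkJ]; exact lt_of_le_of_ne (Weight.coef_nonneg hD hk hr.1) (Ne.symm hne)

theorem inf_levi (hD : D ∈ dataList) (J : Set ℕ) : D.unipotentRadical F J ⊓ D.leviSubgroup F J = ⊥ := by
  classical
  refine le_antisymm (fun g hg => ?_) bot_le
  obtain ⟨hgU, hgL⟩ := Subgroup.mem_inf.1 hg
  set G := outGrading hD J with hG
  set M := ∑ s ∈ Finset.range D.nroots, |G.P s| with hM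
  have hbound : ∀ a : D.Idx, |Weight.wtI G a| ≤ M := by
    rintro (i | s)
    · simp only [Weight.wtI, Sum.elim_inl, abs_zero]
      exact Finset.sum_nonneg fun _ _ => abs_nonneg _
    · exact Finset.single_le_sum (f := fun s => |G.P s|) (fun _ _ => abs_nonneg _) (Finset.mem_range.2 s.2)
  let f : D.Idx → ℕ := fun a => (Weight.wtI G a + M).toNat
  have hf : ∀ a b, f a < f b + (2 * M + 1).toNat := fun a b => by
    have := abs_le.1 (hbound a); have := abs_le.1 (hbound b)
    simp only [f]; omega
  have hU : D.unipotentRadical F J ≤ Triangular.uniTri D F f hf := by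
    rw [unipotentRadical_eq]
    refine RootGen.gen_le hD fun r hr t => ?_
    intro a b hab
    have hpos := out_rad hD hr
    by_cases he : D.x F r t a b = 0
    · exfalso
      rw [Matrix.sub_apply, xGL_val, he, zero_sub, neg_ne_zero] at hab
      have hab' : a = b := by
        by_contra hne; exact hab (Matrix.one_apply_ne hne)
      subst hab'
      have hd : D.x F r t a a = 1 := by
        have hs := Triangular.posUnipotent_le_uniTri hD (xGL_mem_pos hD hr.1 t) a a
        by_contra hne
        exact lt_irrefl _ (hs (by rw [Matrix.sub_apply, Matrix.one_apply_eq, xGL_val, sub_ne_zero]; exact hne))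
      exact one_ne_zero (hd.symm.trans he)
    · obtain ⟨k, hk, hk0⟩ := Weight.x_entry hD G hr.1.1 t he
      rcases Nat.eq_zero_or_pos k with rfl | hkpos
      · exfalso
        obtain rfl := hk0 rfl
        have hs := Triangular.posUnipotent_le_uniTri hD (xGL_mem_pos hD hr.1 t) a a hab
        exact lt_irrefl _ hs
      · have h1 := abs_le.1 (hbound a); have h2 := abs_le.1 (hbound b)
        have h3 : Weight.wtI G b < Weight.wtI G a := by
          rw [hk]; nlinarith
        simp only [f]; omega
  let π : ℤ → Matrix D.Idx D.Idx F := fun n => Matrix.diagonal fun a => if Weight.wtI G a = n then 1 else 0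
  let C : Subgroup (GL D.Idx F) :=
    { carrier := {g | ∀ n, Commute (g : Matrix D.Idx D.Idx F) (π n)}
      one_mem' := fun n => Commute.one_left _
      mul_mem' := fun ha hb n => by rw [Units.val_mul]; exact (ha n).mul_left (hb n)
      inv_mem' := fun ha n => (ha n).units_inv_left }
  have hL : D.leviSubgroup F J ≤ C := by
    refine sup_le ?_ (RootGen.gen_le hD fun r hr t n => ?_)
    · intro h hh n
      obtain ⟨d, hd, -⟩ := BH.torus_of_mem hD hh
      show _ * _ = _ * _
      rw [hd, Matrix.diagonal_mul_diagonal, Matrix.diagonal_mul_diagonal]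
      simp [mul_comm]
    · show _ * _ = _ * _
      ext a b
      rw [Matrix.mul_diagonal, Matrix.diagonal_mul, xGL_val]
      by_cases he : D.x F r t a b = 0
      · simp [he]
      · obtain ⟨k, hk, -⟩ := Weight.x_entry hD G hr.1 t he
        rw [out_sub hD hr, mul_zero, add_zero] at hk
        rw [hk]; ring
  have hs := hU hgU
  have hc := hL hgL
  refine Subgroup.mem_bot.2 (BH.eq_one_of_diag (d := fun a => (g : Matrix D.Idx D.Idx F) a a) hs ?_)
  ext a b
  by_cases he : a = b
  · subst he; simp
  · rw [Matrix.diagonal_apply_ne _ he]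
    by_contra hne
    have l2 := hs a b (by rw [Matrix.sub_apply, Matrix.one_apply_ne he, sub_zero]; exact hne)
    have e := congrFun (congrFun (hc (Weight.wtI G b)).eq a) b
    rw [Matrix.mul_diagonal, Matrix.diagonal_mul, if_pos rfl, mul_one] at e
    split_ifs at e with hw
    · simp only [f, hw] at l2; omega
    · rw [zero_mul] at e; exact hne e

theorem normalizer_radical (hD : D ∈ dataList) (J : Set ℕ) :
    Subgroup.normalizer (D.unipotentRadical F J : Set (GL D.Idx F)) ⊓ D.group F = D.parabolicSubgroup F J := by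
  have hPG : D.parabolicSubgroup F J ≤ D.group F := by
    refine sup_le (borel_le_group hD) ((Subgroup.closure_le _).2 ?_)
    rintro g ⟨j, -, hj, hg⟩
    obtain rfl : g = N.ni hD F j := Units.ext (hg.trans (nGL_val hD _ _).symm)
    exact BN.ni_mem_group hD j
  refine le_antisymm (fun g hg => ?_) (le_inf (le_normalizer hD J) hPG)
  obtain ⟨hgN, hgG⟩ := Subgroup.mem_inf.1 hg
  set P := BN.bnPair (F := F) hD with hPdef
  set M := (Subgroup.normalizer (D.unipotentRadical F J : Set (GL D.Idx F))).subgroupOf (D.group F) with hMdef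
  have hBM : P.B ≤ M := fun b hb => Subgroup.mem_subgroupOf.2
    (le_normalizer hD J (Subgroup.mem_sup_left (Subgroup.mem_subgroupOf.1 hb)))
  have heq := CfsgLib.BNPair.Parabolic.eq_parabolic P hBM
  have hle : P.parabolic (P.S ∩ M) ≤ (D.parabolicSubgroup F J).subgroupOf (D.group F) := by
    refine sup_le (fun b hb => Subgroup.mem_subgroupOf.2 (Subgroup.mem_sup_left (Subgroup.mem_subgroupOf.1 hb)))
      ((Subgroup.closure_le _).2 ?_)
    rintro n ⟨hnS, hnM⟩
    obtain ⟨i, hi, he⟩ := BN.genSet_val hD hnS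
    rw [SetLike.mem_coe, Subgroup.mem_subgroupOf, he]
    by_cases hiJ : i ∈ J
    · exact n_mem hD hiJ hi
    · exfalso
      have hn : N.ni hD F i ∈ Subgroup.normalizer (D.unipotentRadical F J : Set (GL D.Idx F)) := by
        rw [← he]; exact Subgroup.mem_subgroupOf.1 hnM
      have hx : xGL hD F (D.simple i) 1 ∈ D.unipotentRadical F J := by
        rw [unipotentRadical_eq]
        exact RootGen.xGL_mem_gen hD (show Rad D J (D.simple i) from
          ⟨N.simple_pos hD hi, fun h => hiJ ((simple_inSub hD hi).1 h)⟩) 1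
      have h2 := (Subgroup.mem_normalizer_iff.1 hn _).1 hx
      rw [Rel.conj_GL hD hi (Rel.simple_lt hD hi),
        show D.reflectRoot i (D.simple i) = D.neg (D.simple i) by simp [ChevalleyDatum.reflectRoot]] at h2
      have hB : D.unipotentRadical F J ≤ D.borelSubgroup F := by
        rw [unipotentRadical_eq]; exact RootGen.gen_le hD fun r hr t => BN.mem_borel_of_pos hD hr.1 t
      have h3 := BN.borel_not_neg hD (BN.neg_simple_neg hD (N.simple_pos hD hi)) (hB h2)
      rcases Rel.eta_cases hD i (D.simple i) with e | e <;> simp [e] at h3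
  exact Subgroup.mem_subgroupOf.1 (hle (heq.le (Subgroup.mem_subgroupOf.2 hgN : (⟨g, hgG⟩ : ↥(D.group F)) ∈ M)))

end CfsgLib.Chev.Parabolic
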