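import Cfsg.Agent.Lib.Chev.Group.Canonical
import Cfsg.Agent.Lib.Chev.Group.Torus

/-! Pairs of conjugates of the highest root subgroup. -/
set_option autoImplicit false
set_option maxRecDepth 100000
open Cfsg.Lie
open scoped Matrix MatrixGroups

namespace CfsgLib.Chev.RootPairs

open CfsgLib.Chev CfsgLib.Chev.Checks CfsgLib.Chev.Basic

variable {D : ChevalleyDatum} {F : Type*} [Field F]

/-- a functional positive on the highest root and on every root other than the lowest -/
def pairOK (D : ChevalleyDatum) : Bool :=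
  (List.range D.nroots).all fun s => s == 0 ||
    (decide (0 < 7 * D.pairing (D.nroots - 1) (D.nroots - 1) + 4 * D.pairing s (D.nroots - 1)) &&
      decide (0 < 7 * D.pairing (D.nroots - 1) s + 4 * D.pairing s s))

theorem pairOK_all (hD : D ∈ [chevG2, chevD4, chevE6, chevE7, chevE8]) : pairOK D = true := by
  simp only [List.mem_cons, List.not_mem_nil, or_false] at hD
  rcases hD with rfl | rfl | rfl | rfl | rfl <;> decide +kernel

/-- the grading of a pair of roots -/
def pairGrading (hD : D ∈ dataList) (a b : ℕ) : Weight.Grading D where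
  P s := 7 * D.pairing a s + 4 * D.pairing b s
  neg s hs := by
    have h1 := (Weight.pairingGrading hD a).neg s hs
    have h2 := (Weight.pairingGrading hD b).neg s hs
    simp only [Weight.pairingGrading] at h1 h2
    omega
  chain x y k q hx hy hk hq := by
    have h1 := (Weight.pairingGrading hD a).chain x y k q hx hy hk hq
    have h2 := (Weight.pairingGrading hD b).chain x y k q hx hy hk hq
    simp only [Weight.pairingGrading] at h1 h2
    rw [h1, h2]; ring

theorem x_diag (hD : D ∈ dataList) {r : ℕ} (hr : r < D.nroots) (t : F) (a : D.Idx) : D.x F r t a a = 1 := by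
  by_contra hne
  have h : ((xGL hD F r t : GL D.Idx F) : Matrix D.Idx D.Idx F) a a - (1 : Matrix D.Idx D.Idx F) a a ≠ 0 := by
    rw [xGL_val, Matrix.one_apply_eq, sub_ne_zero]; exact hne
  rcases Checks.pos_or_neg hD hr with hp | hp
  · exact lt_irrefl _ (Triangular.posUnipotent_le_uniTri hD (xGL_mem_pos hD hp t) a a h)
  · exact lt_irrefl _ (Triangular.negUnipotent_le_uniTri hD (xGL_mem_neg hD hp t) a a h)

/-- Root elements positive for one grading generate a `p`-group. -/
theorem gen_pGroup (hD : D ∈ dataList) (p : ℕ) [Fact p.Prime] [CharP F p] (G : Weight.Grading D) {P : ℕ → Prop}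
    (hP : ∀ r, P r → r < D.nroots) (hpos : ∀ r, P r → 0 < G.P r) : IsPGroup p (RootGen.gen D F P) := by
  classical
  set M := ∑ s ∈ Finset.range D.nroots, |G.P s| with hM
  have hbound : ∀ a : D.Idx, |Weight.wtI G a| ≤ M := by
    rintro (i | s)
    · simp only [Weight.wtI, Sum.elim_inl, abs_zero]
      exact Finset.sum_nonneg fun _ _ => abs_nonneg _
    · exact Finset.single_le_sum (f := fun s => |G.P s|) (fun _ _ => abs_nonneg _) (Finset.mem_range.2 s.2)
  let f : D.Idx → ℕ := fun a => (Weight.wtI G a + M).toNat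
  have hf : ∀ a b, f a < f b + (2 * M + 1).toNat := fun a b => by
    have := abs_le.1 (hbound a); have := abs_le.1 (hbound b)
    simp only [f]; omega
  have hle : RootGen.gen D F P ≤ Triangular.uniTri D F f hf := by
    refine RootGen.gen_le hD fun r hr t a b hab => ?_
    rw [Matrix.sub_apply, xGL_val] at hab
    rcases eq_or_ne a b with rfl | hne
    · rw [x_diag hD (hP r hr), Matrix.one_apply_eq, sub_self] at hab
      exact absurd rfl hab
    · rw [Matrix.one_apply_ne hne, sub_zero] at hab
      obtain ⟨k, hk, hk0⟩ := Weight.x_entry hD G (hP r hr) t hab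
      have hk' : 0 < (k : ℤ) := by
        rcases Nat.eq_zero_or_pos k with h | h
        · exact absurd (hk0 h) hne
        · exact_mod_cast h
      have := abs_le.1 (hbound a); have := abs_le.1 (hbound b)
      have h3 : 0 < (k : ℤ) * G.P r := mul_pos hk' (hpos r hr)
      simp only [f]; omega
  intro g
  obtain ⟨k, hk⟩ : ∃ k, (2 * M + 1).toNat ≤ p ^ k :=
    ⟨(2 * M + 1).toNat, (Nat.lt_pow_self (Fact.out : p.Prime).one_lt).le⟩
  refine ⟨k, Subtype.ext (Units.ext ?_)⟩
  rw [SubgroupClass.coe_pow, Units.val_pow_eq_pow_val]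
  have hz : (((g : GL D.Idx F) : Matrix D.Idx D.Idx F) - 1) ^ (2 * M + 1).toNat = 0 :=
    (hle g.2 : _).pow_eq_zero hf
  have hne : Nonempty D.Idx := ⟨Sum.inl ⟨0, by
    simp only [dataList, List.mem_cons, List.not_mem_nil, or_false] at hD
    rcases hD with rfl | rfl | rfl | rfl | rfl | rfl | rfl <;> decide⟩⟩
  haveI : CharP (Matrix D.Idx D.Idx F) p := inferInstance
  have h := pow_eq_zero_of_le hk hz
  rw [sub_pow_char_pow_of_commute _ _ (Commute.one_right _), one_pow, sub_eq_zero] at h
  exact h

theorem rootSubgroup_map (hD : D ∈ dataList) {g : GL D.Idx F} {r s : ℕ} (η : F) (hη : η ≠ 0)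
    (h : ∀ t : F, g * xGL hD F r t * g⁻¹ = xGL hD F s (η * t)) :
    (D.rootSubgroup F r).map (MulAut.conj g).toMonoidHom = D.rootSubgroup F s := by
  apply le_antisymm
  · rw [ChevalleyDatum.rootSubgroup, MonoidHom.map_closure]
    refine (Subgroup.closure_le _).2 ?_
    rintro _ ⟨x, ⟨t, hx⟩, rfl⟩
    obtain rfl : x = xGL hD F r t := Units.ext hx
    exact Subgroup.subset_closure ⟨η * t, by
      show ((g * xGL hD F r t * g⁻¹ : GL D.Idx F) : Matrix D.Idx D.Idx F) = _
      rw [h]; rfl⟩
  · refine (Subgroup.closure_le _).2 ?_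
    rintro x ⟨t, hx⟩
    obtain rfl : x = xGL hD F s t := Units.ext hx
    refine ⟨xGL hD F r (η⁻¹ * t), Subgroup.subset_closure ⟨_, rfl⟩, ?_⟩
    show g * _ * g⁻¹ = _
    rw [h, mul_inv_cancel_left₀ hη]

/-- The highest root subgroup is central in `U`. -/
theorem pos_comm_top (hD : D ∈ dataList) {u : GL D.Idx F} (hu : u ∈ D.posUnipotent F) (t : F) :
    u * xGL hD F (D.nroots - 1) t * u⁻¹ = xGL hD F (D.nroots - 1) t := by
  have hn : 2 ≤ D.nroots := by
    simp only [dataList, List.mem_cons, List.not_mem_nil, or_false] at hD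
    rcases hD with rfl | rfl | rfl | rfl | rfl | rfl | rfl <;> decide
  have htop : D.IsPosRoot (D.nroots - 1) := (Weight.pos_iff hD (by omega)).2 (by omega)
  have h : D.posUnipotent F ≤ Subgroup.centralizer {xGL hD F (D.nroots - 1) t} := by
    refine (Subgroup.closure_le _).2 ?_
    rintro x ⟨r, v, hr, hx⟩
    obtain rfl : x = xGL hD F r v := Units.ext hx
    rw [SetLike.mem_coe, Subgroup.mem_centralizer_singleton_iff]
    rcases eq_or_ne r (D.nroots - 1) with rfl | hne
    · rw [Rel.xGL_add hD htop.1, Rel.xGL_add hD htop.1, add_comm]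
    · have hneg : r ≠ D.neg (D.nroots - 1) := by
        have := U.pos_neg_pos hD htop; have := (Weight.pos_iff hD hr.1).1 hr; omega
      have hw : Rel.wordGL hD (D.commWord F (D.nroots - 1) r t v) = 1 := by
        have := U.comm_pos_mem hD htop hr (k := D.nroots) (by omega) t v
        rwa [U.Ug_top _ le_rfl, Subgroup.mem_bot] at this
      rw [Rel.comm_GL hD htop.1 hr.1 hne hneg t v, hw, mul_one]
  rw [Subgroup.mem_centralizer_singleton_iff.1 (h hu), mul_inv_cancel_right]

theorem borel_fix_top (hD : D ∈ dataList) {b : GL D.Idx F} (hb : b ∈ D.borelSubgroup F) :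
    (D.rootSubgroup F (D.nroots - 1)).map (MulAut.conj b).toMonoidHom = D.rootSubgroup F (D.nroots - 1) := by
  obtain ⟨v, hv, h, hh, rfl⟩ := (BH.mem_borel_iff hD).1 hb
  have hn : D.nroots - 1 < D.nroots := by
    simp only [dataList, List.mem_cons, List.not_mem_nil, or_false] at hD
    rcases hD with rfl | rfl | rfl | rfl | rfl | rfl | rfl <;> decide
  obtain ⟨a, ha0, ha⟩ := BH.conj_x hD hh _ hn
  refine rootSubgroup_map hD a ha0 fun t => ?_
  rw [show v * h * xGL hD F (D.nroots - 1) t * (v * h)⁻¹ = v * (h * xGL hD F (D.nroots - 1) t * h⁻¹) * v⁻¹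
    by group, ha, pos_comm_top hD hv]

/-- **Pairs of highest root subgroups.** -/
theorem pairs (hD5 : D ∈ [chevG2, chevD4, chevE6, chevE7, chevE8]) (p : ℕ) [Fact p.Prime] [CharP F p]
    {g : GL D.Idx F} (hg : g ∈ D.group F) :
    IsPGroup p ↥(D.rootSubgroup F (D.nroots - 1) ⊔
      (D.rootSubgroup F (D.nroots - 1)).map (MulAut.conj g).toMonoidHom) ∨
    ∃ h ∈ D.group F, (D.rootSubgroup F (D.nroots - 1) ⊔
      (D.rootSubgroup F (D.nroots - 1)).map (MulAut.conj g).toMonoidHom).map (MulAut.conj h).toMonoidHom =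
        D.rootSubgroup F (D.nroots - 1) ⊔ D.rootSubgroup F 0 := by
  have hD : D ∈ dataList := by
    simp only [dataList, List.mem_cons, List.not_mem_nil, or_false] at hD5 ⊢; tauto
  have hn : D.nroots - 1 < D.nroots := by
    simp only [dataList, List.mem_cons, List.not_mem_nil, or_false] at hD
    rcases hD with rfl | rfl | rfl | rfl | rfl | rfl | rfl <;> decide
  set X := D.rootSubgroup F (D.nroots - 1) with hX
  obtain ⟨b, hb, l, hl, k, hk, u, hu, rfl⟩ := Canonical.exists_form hD hg
  have hup : u ∈ D.posUnipotent F := (RootGen.gen_le hD fun r hr t => xGL_mem_pos hD hr.1 t) hu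
  set s := N.act D l (D.nroots - 1) with hs
  obtain ⟨a, ha0, ha⟩ := BH.conj_x hD hk _ hn
  obtain ⟨η, hη, he⟩ := N.nW_conj (F := F) hD hl hn
  have h1 : X.map (MulAut.conj (N.nW hD F l * k * u)).toMonoidHom = D.rootSubgroup F s := by
    have hη0 : (η : F) * a ≠ 0 := by
      refine mul_ne_zero ?_ ha0
      rcases hη with rfl | rfl <;> simp
    refine rootSubgroup_map hD ((η : F) * a) hη0 fun t => ?_
    rw [show N.nW hD F l * k * u * xGL hD F (D.nroots - 1) t * (N.nW hD F l * k * u)⁻¹ =
      N.nW hD F l * (k * (u * xGL hD F (D.nroots - 1) t * u⁻¹) * k⁻¹) * (N.nW hD F l)⁻¹ by group,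
      pos_comm_top hD hup, ha, he, mul_assoc]
  have hsplit : X.map (MulAut.conj (b * (N.nW hD F l * k) * u)).toMonoidHom =
      (D.rootSubgroup F s).map (MulAut.conj b).toMonoidHom := by
    rw [← h1, Subgroup.map_map]
    congr 1
    ext x
    simp [MulAut.conj_apply, mul_assoc]
  have hsup : X ⊔ X.map (MulAut.conj (b * (N.nW hD F l * k) * u)).toMonoidHom =
      (X ⊔ D.rootSubgroup F s).map (MulAut.conj b).toMonoidHom := by
    rw [Subgroup.map_sup, borel_fix_top hD hb, hsplit]
  rw [hsup]
  have hsn : s < D.nroots := N.act_lt hD hl hn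
  rcases eq_or_ne s 0 with h0 | h0
  · refine Or.inr ⟨b⁻¹, inv_mem (borel_le_group hD hb), ?_⟩
    rw [Subgroup.map_map, h0]
    convert Subgroup.map_id _
    ext x
    simp [MulAut.conj_apply, mul_assoc]
  · left
    refine IsPGroup.map ?_ _
    have hok := pairOK_all hD5
    simp only [pairOK, List.all_eq_true, List.mem_range, Bool.or_eq_true, beq_iff_eq, Bool.and_eq_true,
      decide_eq_true_eq] at hok
    obtain ⟨p1, p2⟩ := (hok s hsn).resolve_left h0
    have hgen := gen_pGroup (F := F) hD p (pairGrading hD (D.nroots - 1) s)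
      (P := fun r => r = D.nroots - 1 ∨ r = s) (fun r hr => by rcases hr with rfl | rfl <;> assumption)
      (fun r hr => by rcases hr with rfl | rfl <;> assumption)
    refine hgen.to_le (sup_le ?_ ?_)
    · exact Subgroup.closure_mono fun x ⟨t, hx⟩ => ⟨_, t, Or.inl rfl, hx⟩
    · exact Subgroup.closure_mono fun x ⟨t, hx⟩ => ⟨_, t, Or.inr rfl, hx⟩

end CfsgLib.Chev.RootPairs
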